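import Mathlib
import Groth.Prelude.Def_Pi1
import Groth.Agent.Lib.Helper4.DedekindOpen1
import Groth.Agent.Lib.Helper4.BirationalNormal1
import Groth.Agent.Lib.Helper4.CurveTop1
import Groth.Agent.Lib.Helper3.FppfDesc4

/-!
# A normal curve dominated by a smooth curve is smooth (helper2)
-/

set_option backward.isDefEq.respectTransparency.types false
set_option synthInstance.maxHeartbeats 400000
set_option maxHeartbeats 4000000
set_option autoImplicit false
set_option linter.unusedSectionVars false
set_option linter.style.haveILetI false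
set_option linter.unusedVariables false
universe u
open CategoryTheory CategoryTheory.Limits AlgebraicGeometry TopologicalSpace IsLocalRing Opposite

namespace Groth.Agent.Lib.Helper2.CurveSm

theorem isDedekindDomain_stalk {Y : Scheme.{u}} [IsIntegral Y] [IsLocallyNoetherian Y]
    (hdY : topologicalKrullDim Y = 1) (hY : Pi1.IsNormalScheme Y) (y : Y) :
    IsDedekindDomain (Y.presheaf.stalk y) := by
  haveI : IsDomain (Y.presheaf.stalk y) := (hY y).1
  haveI : IsIntegrallyClosed (Y.presheaf.stalk y) := (hY y).2
  have hdim : ringKrullDim (Y.presheaf.stalk y) ≤ 1 :=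
    hdY ▸ Groth.Agent.Lib.Helper4.BirationalNormal1.ringKrullDim_stalk_le_topologicalKrullDim Y y
  haveI hD1 : Ring.DimensionLEOne (Y.presheaf.stalk y) := by
    have hK : Ring.KrullDimLE 1 (Y.presheaf.stalk y) := by
      rw [Ring.krullDimLE_iff]; exact hdim
    haveI : (⊥ : Ideal (Y.presheaf.stalk y)).IsPrime := Ideal.isPrime_bot
    exact ⟨fun {p} hp hprime => (Ring.krullDimLE_one_iff_of_isPrime_bot.mp hK) p hp hprime⟩
  exact { }

theorem main (k : Type u) [Field k] (X Y : Scheme.{u})
    (pX : X ⟶ Spec (CommRingCat.of k)) (pY : Y ⟶ Spec (CommRingCat.of k))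
    [IsIntegral X] [IsIntegral Y] [LocallyOfFiniteType pY]
    (hdY : topologicalKrullDim Y = 1)
    (f : X ⟶ Y) (hf : f ≫ pY = pX) [Surjective f]
    [Smooth pX] (hY : Pi1.IsNormalScheme Y) : Smooth pY := by
  haveI : IsLocallyNoetherian Y := LocallyOfFiniteType.isLocallyNoetherian pY
  haveI : Smooth (f ≫ pY) := by rw [hf]; infer_instance
  haveI : LocallyOfFiniteType (f ≫ pY) := inferInstance
  haveI : LocallyOfFiniteType f := locallyOfFiniteType_of_comp f pY
  haveI : LocallyOfFinitePresentation f :=
    LocallyOfFinitePresentation.iff_locallyOfFiniteType.mpr inferInstance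
  haveI : IsDominant f := inferInstance
  have hdom : f (genericPoint X) = genericPoint Y :=
    Groth.Agent.Lib.Helper4.CurveTop1.map_genericPoint_of_isDominant f
  haveI : Flat f :=
    Groth.Agent.Lib.Helper4.DedekindOpen1.flat_of_dominant_dedekind f hdom
      (fun y => isDedekindDomain_stalk hdY hY y)
  exact Groth.Agent.Helper3.FppfDesc.smooth_of_fppf_cover f pY

end Groth.Agent.Lib.Helper2.CurveSm
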